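import Cfsg.Agent.H847.Bs.Defs2

/-!
# S5733, task BS20: three block decompositions `V = A ⊕ B ⊕ C`

`tri e (a, b, c)` is the block diagonal automorphism of `V` for `e : V ≃ A × (B × C)`.
`tri_ti`: the (TI) property: `A ⊕ B` small, `b` irreducible, `dim A < dim B`, `c` a large block element.
-/

set_option autoImplicit false

namespace Cfsg.Agent.H193.Bs

open Cfsg.Agent.H847.Bs

variable {F A B C V : Type*} [Field F] [AddCommGroup A] [Module F A] [AddCommGroup B] [Module F B]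
  [AddCommGroup C] [Module F C] [AddCommGroup V] [Module F V]

/-- the block diagonal automorphism -/
noncomputable def tri (e : V ≃ₗ[F] A × (B × C)) :
    ((A ≃ₗ[F] A) × ((B ≃ₗ[F] B) × (C ≃ₗ[F] C))) →* (V ≃ₗ[F] V) where
  toFun t := e ≪≫ₗ (t.1.prodCongr (t.2.1.prodCongr t.2.2)) ≪≫ₗ e.symm
  map_one' := by
    ext v
    show e.symm ((e v).1, ((e v).2.1, (e v).2.2)) = v
    exact e.symm_apply_apply v
  map_mul' s t := by
    ext v
    show e.symm (s.1 (t.1 (e v).1), (s.2.1 (t.2.1 (e v).2.1), s.2.2 (t.2.2 (e v).2.2))) =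
      e.symm (s.1 (e (e.symm (t.1 (e v).1, (t.2.1 (e v).2.1, t.2.2 (e v).2.2)))).1,
        (s.2.1 (e (e.symm (t.1 (e v).1, (t.2.1 (e v).2.1, t.2.2 (e v).2.2)))).2.1,
        s.2.2 (e (e.symm (t.1 (e v).1, (t.2.1 (e v).2.1, t.2.2 (e v).2.2)))).2.2))
    rw [e.apply_symm_apply]

theorem tri_apply (e : V ≃ₗ[F] A × (B × C)) (t : (A ≃ₗ[F] A) × ((B ≃ₗ[F] B) × (C ≃ₗ[F] C))) (v : V) :
    tri e t v = e.symm (t.1 (e v).1, (t.2.1 (e v).2.1, t.2.2 (e v).2.2)) := rfl

theorem e_tri (e : V ≃ₗ[F] A × (B × C)) (t : (A ≃ₗ[F] A) × ((B ≃ₗ[F] B) × (C ≃ₗ[F] C))) (v : V) :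
    e (tri e t v) = (t.1 (e v).1, (t.2.1 (e v).2.1, t.2.2 (e v).2.2)) := by
  rw [tri_apply, e.apply_symm_apply]

theorem tri_injective (e : V ≃ₗ[F] A × (B × C)) : Function.Injective (tri e) := by
  intro s t h
  have h1 : ∀ (x : A) (y : B) (z : C), (s.1 x, (s.2.1 y, s.2.2 z)) = (t.1 x, (t.2.1 y, t.2.2 z)) := by
    intro x y z
    have := e_tri e s (e.symm (x, (y, z)))
    rw [h, e_tri, e.apply_symm_apply] at this
    exact this.symm
  refine Prod.ext ?_ (Prod.ext ?_ ?_)
  · ext x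
    exact (Prod.ext_iff.1 (h1 x 0 0)).1
  · ext y
    exact (Prod.ext_iff.1 (Prod.ext_iff.1 (h1 0 y 0)).2).1
  · ext z
    exact (Prod.ext_iff.1 (Prod.ext_iff.1 (h1 0 0 z)).2).2

theorem det_tri [Module.Finite F A] [Module.Finite F B] [Module.Finite F C] (e : V ≃ₗ[F] A × (B × C))
    (t : (A ≃ₗ[F] A) × ((B ≃ₗ[F] B) × (C ≃ₗ[F] C))) :
    LinearMap.det (tri e t : V →ₗ[F] V) = LinearMap.det (t.1 : A →ₗ[F] A) *
      (LinearMap.det (t.2.1 : B →ₗ[F] B) * LinearMap.det (t.2.2 : C →ₗ[F] C)) := by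
  have h1 : (tri e t : V →ₗ[F] V) = (e.symm : A × (B × C) →ₗ[F] V) ∘ₗ
      ((t.1 : A →ₗ[F] A).prodMap ((t.2.1 : B →ₗ[F] B).prodMap (t.2.2 : C →ₗ[F] C))) ∘ₗ (e : V →ₗ[F] A × (B × C)) := by
    ext v
    rfl
  rw [h1, ← LinearMap.det_prodMap, ← LinearMap.det_prodMap]
  have h2 := LinearMap.det_conj
    ((t.1 : A →ₗ[F] A).prodMap ((t.2.1 : B →ₗ[F] B).prodMap (t.2.2 : C →ₗ[F] C))) e.symm
  rw [LinearEquiv.symm_symm] at h2
  exact h2


/-- an automorphism without off-diagonal entries is block diagonal -/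
theorem exists_tri [Module.Finite F A] [Module.Finite F B] [Module.Finite F C] (e : V ≃ₗ[F] A × (B × C))
    (g : V ≃ₗ[F] V)
    (hA : ∀ u : A, (e (g (e.symm (u, (0, 0))))).2 = (0, 0))
    (hB : ∀ v : B, (e (g (e.symm (0, (v, 0))))).1 = 0 ∧ (e (g (e.symm (0, (v, 0))))).2.2 = 0)
    (hC : ∀ w : C, (e (g (e.symm (0, (0, w))))).1 = 0 ∧ (e (g (e.symm (0, (0, w))))).2.1 = 0) :
    ∃ t, g = tri e t := by
  let fA : A →ₗ[F] A := LinearMap.fst F A (B × C) ∘ₗ (e : V →ₗ[F] A × (B × C)) ∘ₗ (g : V →ₗ[F] V) ∘ₗ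
    (e.symm : A × (B × C) →ₗ[F] V) ∘ₗ LinearMap.inl F A (B × C)
  let fB : B →ₗ[F] B := LinearMap.fst F B C ∘ₗ LinearMap.snd F A (B × C) ∘ₗ (e : V →ₗ[F] A × (B × C)) ∘ₗ
    (g : V →ₗ[F] V) ∘ₗ (e.symm : A × (B × C) →ₗ[F] V) ∘ₗ LinearMap.inr F A (B × C) ∘ₗ LinearMap.inl F B C
  let fC : C →ₗ[F] C := LinearMap.snd F B C ∘ₗ LinearMap.snd F A (B × C) ∘ₗ (e : V →ₗ[F] A × (B × C)) ∘ₗ
    (g : V →ₗ[F] V) ∘ₗ (e.symm : A × (B × C) →ₗ[F] V) ∘ₗ LinearMap.inr F A (B × C) ∘ₗ LinearMap.inr F B C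
  have hA' : ∀ u, g (e.symm (u, (0, 0))) = e.symm (fA u, (0, 0)) := by
    intro u
    rw [LinearEquiv.eq_symm_apply]
    exact Prod.ext rfl (hA u)
  have hB' : ∀ v, g (e.symm (0, (v, 0))) = e.symm (0, (fB v, 0)) := by
    intro v
    rw [LinearEquiv.eq_symm_apply]
    exact Prod.ext (hB v).1 (Prod.ext rfl (hB v).2)
  have hC' : ∀ w, g (e.symm (0, (0, w))) = e.symm (0, (0, fC w)) := by
    intro w
    rw [LinearEquiv.eq_symm_apply]
    exact Prod.ext (hC w).1 (Prod.ext (hC w).2 rfl)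
  have iA : Function.Injective fA := by
    intro u u' h
    have h1 := (hA' u).trans ((congrArg (fun z => e.symm (z, ((0 : B), (0 : C)))) h).trans (hA' u').symm)
    exact congrArg Prod.fst (e.symm.injective (g.injective h1))
  have iB : Function.Injective fB := by
    intro u u' h
    have h1 := (hB' u).trans ((congrArg (fun z => e.symm ((0 : A), (z, (0 : C)))) h).trans (hB' u').symm)
    exact congrArg (fun z => z.2.1) (e.symm.injective (g.injective h1))
  have iC : Function.Injective fC := by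
    intro u u' h
    have h1 := (hC' u).trans ((congrArg (fun z => e.symm ((0 : A), ((0 : B), z))) h).trans (hC' u').symm)
    exact congrArg (fun z => z.2.2) (e.symm.injective (g.injective h1))
  refine ⟨(LinearEquiv.ofInjectiveEndo fA iA, (LinearEquiv.ofInjectiveEndo fB iB,
    LinearEquiv.ofInjectiveEndo fC iC)), ?_⟩
  ext v
  obtain ⟨⟨x, y, z⟩, rfl⟩ := e.symm.surjective v
  rw [tri_apply, e.apply_symm_apply]
  have h0 : ((x, y, z) : A × (B × C)) = (x, (0, 0)) + ((0, (y, 0)) + (0, (0, z))) := by simp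
  rw [h0, map_add, map_add, map_add, map_add, hA', hB', hC', ← map_add, ← map_add]
  congr 1
  simp

/-- the (TI) property -/
theorem tri_ti [Module.Finite F A] [Module.Finite F B] [Module.Finite F C] (e : V ≃ₗ[F] A × (B × C))
    {K d : ℕ} (hAB : Module.finrank F A + Module.finrank F B ≤ K) (hlt : Module.finrank F A < Module.finrank F B)
    {a a' : A ≃ₗ[F] A} {b b' : B ≃ₗ[F] B} {c c' : C ≃ₗ[F] C} (hb : Irr b ⊤) (hb' : Irr b' ⊤)
    (hc' : c' ∈ SG F C K d) {g : V ≃ₗ[F] V}
    (h : g * tri e (a, (b, c)) * g⁻¹ = tri e (a', (b', c'))) : ∃ t, g = tri e t := by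
  haveI : Module.Finite F V := Module.Finite.equiv e.symm
  have hn : Module.finrank F V = Module.finrank F A + (Module.finrank F B + Module.finrank F C) := by
    rw [e.finrank_eq, Module.finrank_prod, Module.finrank_prod]
  have hg : ∀ v, g (tri e (a, (b, c)) v) = tri e (a', (b', c')) (g v) := by
    intro v
    rw [← h]
    show _ = g (tri e (a, (b, c)) (g⁻¹ (g v)))
    rw [show g⁻¹ (g v) = v from g.symm_apply_apply v]
  -- first fact
  let pC : V →ₗ[F] C := LinearMap.snd F B C ∘ₗ LinearMap.snd F A (B × C) ∘ₗ (e : V →ₗ[F] A × (B × C))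
  have hpC : ∀ t v, pC (tri e t v) = t.2.2 (pC v) := by
    intro t v
    show (e (tri e t v)).2.2 = _
    rw [e_tri]
    rfl
  have f1 : ∀ v, pC v = 0 → pC (g v) = 0 := by
    have hk : Module.finrank F (LinearMap.ker pC) ≤ K := by
      have hs : Function.Surjective pC := by
        intro w
        exact ⟨e.symm (0, (0, w)), by show (e (e.symm (0, (0, w)))).2.2 = w; rw [e.apply_symm_apply]⟩
      have h1 := LinearMap.finrank_range_add_finrank_ker pC
      rw [LinearMap.range_eq_top.2 hs, finrank_top] at h1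
      omega
    let Y : Submodule F C := (LinearMap.ker pC).map (pC ∘ₗ (g : V →ₗ[F] V))
    have hY : Inv c' Y := by
      rintro _ ⟨v, hv, rfl⟩
      refine ⟨tri e (a, (b, c)) v, ?_, ?_⟩
      · show pC _ = 0
        rw [hpC]
        rw [show pC v = 0 from hv, map_zero]
      · show pC (g (tri e (a, (b, c)) v)) = c' (pC (g v))
        rw [hg, hpC]
    have hY0 : Y = ⊥ := by
      by_contra hne
      have h2 := hc'.1 Y hY hne
      have h3 : Module.finrank F Y ≤ Module.finrank F (LinearMap.ker pC) := Submodule.finrank_map_le _ _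
      omega
    intro v hv
    have h4 : pC (g v) ∈ Y := ⟨v, hv, rfl⟩
    rw [hY0] at h4
    exact h4
  -- second fact
  have f2 : ∀ w : C, ∃ w' : C, g (e.symm (0, (0, w))) = e.symm (0, (0, w')) := by
    let iC : C →ₗ[F] V := (e.symm : A × (B × C) →ₗ[F] V) ∘ₗ LinearMap.inr F A (B × C) ∘ₗ LinearMap.inr F B C
    have hiC : Function.Injective iC := by
      intro x y hxy
      exact congrArg (fun z => z.2.2) (e.symm.injective (show e.symm (0, (0, x)) = e.symm (0, (0, y)) from hxy))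
    have hit : ∀ t w, tri e t (iC w) = iC (t.2.2 w) := by
      intro t w
      show tri e t (e.symm (0, (0, w))) = e.symm (0, (0, t.2.2 w))
      rw [tri_apply, e.apply_symm_apply]
      simp
    let Y : Submodule F V := (LinearMap.range iC).map (g : V →ₗ[F] V)
    have hrf : Module.finrank F (LinearMap.range iC) = Module.finrank F C := LinearMap.finrank_range_of_inj hiC
    have hYf : Module.finrank F Y = Module.finrank F C := by
      rw [← hrf]
      exact (Submodule.equivMapOfInjective (g : V →ₗ[F] V) g.injective _).finrank_eq.symm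
    have hYi : ∀ y ∈ Y, tri e (a', (b', c')) y ∈ Y := by
      rintro _ ⟨_, ⟨w, rfl⟩, rfl⟩
      refine ⟨iC (c w), ⟨_, rfl⟩, ?_⟩
      have := hg (iC w)
      rw [hit] at this
      exact this
    have hc0 : Y.comap iC = ⊤ := by
      by_contra hne
      have hI : Inv c' (Y.comap iC) := by
        intro w hw
        show iC (c' w) ∈ Y
        have := hYi _ hw
        rwa [hit] at this
      have h1 := hc'.2.1 _ hI hne
      have h2 : Module.finrank F (Y.comap iC) = Module.finrank F (Y ⊓ LinearMap.range iC : Submodule F V) := by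
        have h3 : (Y.comap iC).map iC = Y ⊓ LinearMap.range iC := by
          rw [Submodule.map_comap_eq, inf_comm]
        rw [← h3]
        exact (Submodule.equivMapOfInjective iC hiC _).finrank_eq
      have h4 := Submodule.finrank_sup_add_finrank_inf_eq Y (LinearMap.range iC)
      have h5 : Module.finrank F (Y ⊔ LinearMap.range iC : Submodule F V) ≤ Module.finrank F V :=
        Submodule.finrank_le _
      omega
    have hle : LinearMap.range iC ≤ Y := by
      rintro _ ⟨w, rfl⟩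
      have : w ∈ Y.comap iC := by rw [hc0]; trivial
      exact this
    have heq : LinearMap.range iC = Y := Submodule.eq_of_le_of_finrank_eq hle (by rw [hrf, hYf])
    intro w
    have : g (iC w) ∈ LinearMap.range iC := by
      rw [heq]
      exact ⟨_, ⟨w, rfl⟩, rfl⟩
    obtain ⟨w', hw'⟩ := this
    exact ⟨w', hw'.symm⟩
  -- third fact
  have f3 : ∀ v : B, (e (g (e.symm (0, (v, 0))))).1 = 0 := by
    let f : B →ₗ[F] A := LinearMap.fst F A (B × C) ∘ₗ (e : V →ₗ[F] A × (B × C)) ∘ₗ (g : V →ₗ[F] V) ∘ₗ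
      (e.symm : A × (B × C) →ₗ[F] V) ∘ₗ LinearMap.inr F A (B × C) ∘ₗ LinearMap.inl F B C
    have hf : ∀ v, f (b v) = a' (f v) := by
      intro v
      show (e (g (e.symm (0, (b v, 0))))).1 = a' (e (g (e.symm (0, (v, 0))))).1
      have h1 : e.symm (0, (b v, 0)) = tri e (a, (b, c)) (e.symm (0, (v, 0))) := by
        rw [tri_apply, e.apply_symm_apply]
        simp
      rw [h1, hg, e_tri]
    have hI : Inv b (LinearMap.ker f) := by
      intro v hv
      show f (b v) = 0
      rw [hf, show f v = 0 from hv, map_zero]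
    rcases hb.min _ le_top hI with h0 | h0
    · exfalso
      have h1 := LinearMap.finrank_le_finrank_of_injective (LinearMap.ker_eq_bot.1 h0)
      omega
    · intro v
      have : v ∈ LinearMap.ker f := by rw [h0]; trivial
      exact this
  -- fourth fact
  have f4 : ∀ u : A, (e (g (e.symm (u, (0, 0))))).2.1 = 0 := by
    let f : A →ₗ[F] B := LinearMap.fst F B C ∘ₗ LinearMap.snd F A (B × C) ∘ₗ (e : V →ₗ[F] A × (B × C)) ∘ₗ
      (g : V →ₗ[F] V) ∘ₗ (e.symm : A × (B × C) →ₗ[F] V) ∘ₗ LinearMap.inl F A (B × C)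
    have hf : ∀ v, f (a v) = b' (f v) := by
      intro v
      show (e (g (e.symm (a v, (0, 0))))).2.1 = b' (e (g (e.symm (v, (0, 0))))).2.1
      have h1 : e.symm (a v, (0, 0)) = tri e (a, (b, c)) (e.symm (v, (0, 0))) := by
        rw [tri_apply, e.apply_symm_apply]
        simp
      rw [h1, hg, e_tri]
    have hI : Inv b' (LinearMap.range f) := by
      rintro _ ⟨v, rfl⟩
      exact ⟨a v, hf v⟩
    rcases hb'.min _ le_top hI with h0 | h0
    · intro v
      have : f v ∈ LinearMap.range f := ⟨v, rfl⟩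
      rw [h0] at this
      exact this
    · exfalso
      have h1 := LinearMap.finrank_range_le f
      rw [h0, finrank_top] at h1
      omega
  refine exists_tri e g (fun u => ?_) (fun v => ⟨f3 v, ?_⟩) (fun w => ?_)
  · refine Prod.ext (f4 u) (f1 (e.symm (u, (0, 0))) ?_)
    show (e (e.symm (u, (0, 0)))).2.2 = 0
    rw [e.apply_symm_apply]
  · refine f1 (e.symm (0, (v, 0))) ?_
    show (e (e.symm (0, (v, 0)))).2.2 = 0
    rw [e.apply_symm_apply]
  · obtain ⟨w', hw'⟩ := f2 w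
    rw [hw', e.apply_symm_apply]
    exact ⟨rfl, rfl⟩

end Cfsg.Agent.H193.Bs
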