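import Cfsg.Agent.H193.Bs.Tri

/-!
# S5733, task BS20: the fixed point trick for `SL(V)`
-/

set_option autoImplicit false

namespace Cfsg.Agent.H193.Bs

open Cfsg.Agent.H847.Bs

theorem finite_gl (F V : Type*) [Field F] [Finite F] [AddCommGroup V] [Module F V] [Module.Finite F V] :
    Finite (V ≃ₗ[F] V) := by
  have : Finite V := Module.finite_of_finite F
  exact Finite.of_injective (fun g : V ≃ₗ[F] V => (g : V → V)) DFunLike.coe_injective

section Two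

variable {F : Type*} [Field F]

/-- `diag(μ, 1)` -/
noncomputable def dia (μ : F) (hμ : μ ≠ 0) : (Fin 2 → F) ≃ₗ[F] (Fin 2 → F) :=
  Matrix.toLin'OfInv (M := Matrix.diagonal ![μ⁻¹, 1]) (M' := Matrix.diagonal ![μ, 1])
    (by
      rw [Matrix.diagonal_mul_diagonal, ← Matrix.diagonal_one]
      congr 1
      funext i
      fin_cases i
      · simp [hμ]
      · simp)
    (by
      rw [Matrix.diagonal_mul_diagonal, ← Matrix.diagonal_one]
      congr 1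
      funext i
      fin_cases i
      · simp [hμ]
      · simp)

theorem det_dia (μ : F) (hμ : μ ≠ 0) : LinearMap.det (dia μ hμ : (Fin 2 → F) →ₗ[F] (Fin 2 → F)) = μ := by
  have h : (dia μ hμ : (Fin 2 → F) →ₗ[F] (Fin 2 → F)) = Matrix.toLin' (Matrix.diagonal ![μ, 1]) :=
    LinearMap.ext fun v => rfl
  rw [h, LinearMap.det_toLin', Matrix.det_diagonal]
  simp

/-- products of a scalar and an element of determinant one, in dimension two -/
def SA (F : Type*) [Field F] : Set ((Fin 2 → F) ≃ₗ[F] (Fin 2 → F)) :=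
  {a | ∃ μ : F, μ ≠ 0 ∧ LinearMap.det (a : (Fin 2 → F) →ₗ[F] (Fin 2 → F)) = μ ^ 2}

theorem card_sa [Finite F] : Nat.card ((Fin 2 → F) ≃ₗ[F] (Fin 2 → F)) ≤ 2 * Nat.card (SA F) := by
  classical
  have := finite_gl F (Fin 2 → F)
  let _ : Fintype F := Fintype.ofFinite F
  have hdet : ∀ a : (Fin 2 → F) ≃ₗ[F] (Fin 2 → F), LinearMap.det (a : (Fin 2 → F) →ₗ[F] (Fin 2 → F)) ≠ 0 :=
    fun a => (LinearEquiv.isUnit_det' a).ne_zero
  have hsq : ∀ a : (Fin 2 → F) ≃ₗ[F] (Fin 2 → F),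
      IsSquare (LinearMap.det (a : (Fin 2 → F) →ₗ[F] (Fin 2 → F))) → a ∈ SA F := by
    rintro a ⟨μ, h⟩
    refine ⟨μ, ?_, by rw [h, sq]⟩
    rintro rfl
    exact hdet a (by rw [h, mul_zero])
  by_cases hex : ∃ ν : F, ¬ IsSquare ν
  · obtain ⟨ν, hν⟩ := hex
    have hν0 : ν ≠ 0 := by
      rintro rfl
      exact hν ⟨0, by simp⟩
    have hns : ∀ x y : F, ¬ IsSquare x → ¬ IsSquare y → IsSquare (x * y) := by
      intro x y hx hy
      have hx0 : x ≠ 0 := by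
        rintro rfl
        exact hx ⟨0, by simp⟩
      have hy0 : y ≠ 0 := by
        rintro rfl
        exact hy ⟨0, by simp⟩
      rw [← quadraticChar_one_iff_isSquare (mul_ne_zero hx0 hy0), map_mul,
        quadraticChar_neg_one_iff_not_isSquare.2 hx, quadraticChar_neg_one_iff_not_isSquare.2 hy]
      norm_num
    let f : ((Fin 2 → F) ≃ₗ[F] (Fin 2 → F)) → SA F × Bool := fun a =>
      if h : IsSquare (LinearMap.det (a : (Fin 2 → F) →ₗ[F] (Fin 2 → F))) then (⟨a, hsq a h⟩, true)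
      else (⟨dia ν hν0 * a, hsq _ (by
        show IsSquare (LinearMap.det ((dia ν hν0 : (Fin 2 → F) →ₗ[F] (Fin 2 → F)) ∘ₗ (a : (Fin 2 → F) →ₗ[F] (Fin 2 → F))))
        rw [LinearMap.det_comp, det_dia]
        exact hns _ _ hν h)⟩, false)
    have hf : Function.Injective f := by
      intro a b hab
      by_cases ha : IsSquare (LinearMap.det (a : (Fin 2 → F) →ₗ[F] (Fin 2 → F))) <;>
      by_cases hb : IsSquare (LinearMap.det (b : (Fin 2 → F) →ₗ[F] (Fin 2 → F)))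
      · simp only [f, dif_pos ha, dif_pos hb] at hab
        exact congrArg (fun z : SA F × Bool => z.1.1) hab
      · simp only [f, dif_pos ha, dif_neg hb] at hab
        exact absurd (congrArg Prod.snd hab) (by simp)
      · simp only [f, dif_neg ha, dif_pos hb] at hab
        exact absurd (congrArg Prod.snd hab) (by simp)
      · simp only [f, dif_neg ha, dif_neg hb] at hab
        exact mul_left_cancel (congrArg (fun z : SA F × Bool => z.1.1) hab)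
    have h1 := Nat.card_le_card_of_injective f hf
    rw [Nat.card_prod] at h1
    have h2 : Nat.card Bool = 2 := by simp
    rw [h2] at h1
    omega
  · push Not at hex
    have h1 : Nat.card ((Fin 2 → F) ≃ₗ[F] (Fin 2 → F)) ≤ Nat.card (SA F) :=
      Nat.card_le_card_of_injective (fun a => (⟨a, hsq a (hex _)⟩ : SA F)) fun a b h => congrArg Subtype.val h
    omega

end Two

variable {F : Type*} [Field F] {V : Type*} [AddCommGroup V] [Module F V] {m : ℕ}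

/-- `SL₂` in the first corner -/
noncomputable def ksl (e : V ≃ₗ[F] (Fin 2 → F) × ((Fin 9 → F) × (Fin m → F))) :
    Matrix.SpecialLinearGroup (Fin 2) F →* slV F V :=
  MonoidHom.codRestrict ((tri e).comp ((MonoidHom.inl _ _).comp Matrix.SpecialLinearGroup.toLin')) (slV F V) (by
    intro k
    show LinearMap.det (tri e (Matrix.SpecialLinearGroup.toLin' k, 1) : V →ₗ[F] V) = 1
    rw [det_tri]
    have h1 : LinearMap.det ((Matrix.SpecialLinearGroup.toLin' k : (Fin 2 → F) ≃ₗ[F] (Fin 2 → F)) :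
        (Fin 2 → F) →ₗ[F] (Fin 2 → F)) = 1 := by
      rw [Matrix.SpecialLinearGroup.toLin'_to_linearMap, LinearMap.det_toLin', k.2]
    have h2 : ∀ n : ℕ, LinearMap.det (((1 : (Fin n → F) ≃ₗ[F] (Fin n → F)) : (Fin n → F) →ₗ[F] (Fin n → F))) = 1 :=
      fun n => LinearMap.det_id
    show _ * (LinearMap.det (((1 : (Fin 9 → F) ≃ₗ[F] (Fin 9 → F)) : (Fin 9 → F) →ₗ[F] (Fin 9 → F))) *
      LinearMap.det (((1 : (Fin m → F) ≃ₗ[F] (Fin m → F)) : (Fin m → F) →ₗ[F] (Fin m → F)))) = 1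
    rw [h2, h2, mul_one, mul_one]
    exact h1)

theorem ksl_coe (e : V ≃ₗ[F] (Fin 2 → F) × ((Fin 9 → F) × (Fin m → F))) (k : Matrix.SpecialLinearGroup (Fin 2) F) :
    ((ksl e k : slV F V) : V ≃ₗ[F] V) = tri e (Matrix.SpecialLinearGroup.toLin' k, 1) := rfl

theorem exists_ksl (e : V ≃ₗ[F] (Fin 2 → F) × ((Fin 9 → F) × (Fin m → F)))
    (a : (Fin 2 → F) ≃ₗ[F] (Fin 2 → F)) (ha : LinearMap.det (a : (Fin 2 → F) →ₗ[F] (Fin 2 → F)) = 1) :
    ∃ k, ((ksl e k : slV F V) : V ≃ₗ[F] V) = tri e (a, 1) := by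
  let k : Matrix.SpecialLinearGroup (Fin 2) F :=
    ⟨LinearMap.toMatrix' (a : (Fin 2 → F) →ₗ[F] (Fin 2 → F)), by rw [LinearMap.det_toMatrix', ha]⟩
  refine ⟨k, ?_⟩
  rw [ksl_coe]
  congr 2
  apply LinearEquiv.toLinearMap_injective
  rw [Matrix.SpecialLinearGroup.toLin'_to_linearMap]
  exact Matrix.toLin'_toMatrix' _

theorem ksl_injective (e : V ≃ₗ[F] (Fin 2 → F) × ((Fin 9 → F) × (Fin m → F))) : Function.Injective (ksl e) := by
  intro k l h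
  have h1 : tri e (Matrix.SpecialLinearGroup.toLin' k, 1) = tri e (Matrix.SpecialLinearGroup.toLin' l, 1) := by
    rw [← ksl_coe, ← ksl_coe, h]
  exact Matrix.SpecialLinearGroup.toLin'_injective (congrArg Prod.fst (tri_injective e h1))

/-- the block diagonal group -/
noncomputable def MM (e : V ≃ₗ[F] (Fin 2 → F) × ((Fin 9 → F) × (Fin m → F))) : Subgroup (slV F V) :=
  (tri e).range.subgroupOf (slV F V)

/-- the good block diagonal elements -/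
def EE (e : V ≃ₗ[F] (Fin 2 → F) × ((Fin 9 → F) × (Fin m → F))) (K d : ℕ) : Set (slV F V) :=
  {g | ∃ (a : (Fin 2 → F) ≃ₗ[F] (Fin 2 → F)) (b : (Fin 9 → F) ≃ₗ[F] (Fin 9 → F)) (c : (Fin m → F) ≃ₗ[F] (Fin m → F)),
    a ∈ SA F ∧ Irr b ⊤ ∧ c ∈ SG F (Fin m → F) K d ∧ (g : V ≃ₗ[F] V) = tri e (a, (b, c))}

theorem ksl_le (e : V ≃ₗ[F] (Fin 2 → F) × ((Fin 9 → F) × (Fin m → F))) : (ksl e).range ≤ MM e := by
  rintro _ ⟨k, rfl⟩
  exact ⟨_, rfl⟩

theorem ee_subset (e : V ≃ₗ[F] (Fin 2 → F) × ((Fin 9 → F) × (Fin m → F))) (K d : ℕ) : EE e K d ⊆ MM e := by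
  rintro g ⟨a, b, c, -, -, -, h⟩
  exact ⟨_, h.symm⟩

theorem ee_mul (e : V ≃ₗ[F] (Fin 2 → F) × ((Fin 9 → F) × (Fin m → F))) (K d : ℕ) :
    ∀ y ∈ EE e K d, ∀ k ∈ (ksl e).range, y * k ∈ EE e K d := by
  rintro y ⟨a, b, c, ⟨μ, hμ, ha⟩, hb, hc, h⟩ _ ⟨k, rfl⟩
  refine ⟨a * Matrix.SpecialLinearGroup.toLin' k, b, c, ⟨μ, hμ, ?_⟩, hb, hc, ?_⟩
  · show LinearMap.det ((a : (Fin 2 → F) →ₗ[F] (Fin 2 → F)) ∘ₗ
      ((Matrix.SpecialLinearGroup.toLin' k : (Fin 2 → F) ≃ₗ[F] (Fin 2 → F)) : (Fin 2 → F) →ₗ[F] (Fin 2 → F))) = _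
    rw [LinearMap.det_comp, ha, Matrix.SpecialLinearGroup.toLin'_to_linearMap, LinearMap.det_toLin', k.2, mul_one]
  · show (y : V ≃ₗ[F] V) * ((ksl e k : slV F V) : V ≃ₗ[F] V) = _
    rw [h, ksl_coe, ← map_mul]
    rfl

theorem ee_ti (e : V ≃ₗ[F] (Fin 2 → F) × ((Fin 9 → F) × (Fin m → F))) {K d : ℕ} (hK : 11 ≤ K) :
    ∀ g : slV F V, ∀ x ∈ EE e K d, g * x * g⁻¹ ∈ EE e K d → g ∈ MM e := by
  rintro g x ⟨a, b, c, -, hb, -, h⟩ ⟨a', b', c', -, hb', hc', h'⟩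
  have h1 : (g : V ≃ₗ[F] V) * tri e (a, (b, c)) * (g : V ≃ₗ[F] V)⁻¹ = tri e (a', (b', c')) := by
    rw [← h, ← h']
    rfl
  obtain ⟨t, ht⟩ := tri_ti (A := Fin 2 → F) (B := Fin 9 → F) (C := Fin m → F) e (K := K) (d := d)
    (by rw [Module.finrank_fin_fun, Module.finrank_fin_fun]; omega)
    (by rw [Module.finrank_fin_fun, Module.finrank_fin_fun]; omega) hb hb' hc' h1
  exact ⟨t, ht.symm⟩

theorem ee_split (e : V ≃ₗ[F] (Fin 2 → F) × ((Fin 9 → F) × (Fin m → F))) (K d : ℕ) :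
    ∀ y ∈ EE e K d, ∃ z, ∃ k ∈ (ksl e).range, (∀ l ∈ (ksl e).range, z * l = l * z) ∧ y = z * k := by
  rintro y ⟨a, b, c, ⟨μ, hμ, ha⟩, hb, hc, h⟩
  let s : (Fin 2 → F) ≃ₗ[F] (Fin 2 → F) := LinearEquiv.smulOfNeZero F (Fin 2 → F) μ hμ
  have hs : LinearMap.det (s : (Fin 2 → F) →ₗ[F] (Fin 2 → F)) = μ ^ 2 := by
    have h1 : (s : (Fin 2 → F) →ₗ[F] (Fin 2 → F)) = μ • LinearMap.id := by
      ext v
      rfl
    rw [h1, LinearMap.det_smul, LinearMap.det_id, Module.finrank_fin_fun, mul_one]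
  have hsc : ∀ x : (Fin 2 → F) ≃ₗ[F] (Fin 2 → F), s * x = x * s := by
    intro x
    ext v
    show (μ • x _) _ = x (μ • _) _
    rw [map_smul]
  have hdy : LinearMap.det ((y : V ≃ₗ[F] V) : V →ₗ[F] V) = 1 := y.2
  have hz : LinearMap.det (tri e (s, (b, c)) : V →ₗ[F] V) = 1 := by
    rw [h, det_tri] at hdy
    rw [det_tri]
    show LinearMap.det (s : (Fin 2 → F) →ₗ[F] (Fin 2 → F)) * _ = 1
    rw [hs, ← ha]
    exact hdy
  obtain ⟨k, hk⟩ := exists_ksl e (s⁻¹ * a) (by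
    have h1 : (s : (Fin 2 → F) →ₗ[F] (Fin 2 → F)) ∘ₗ ((s⁻¹ * a : (Fin 2 → F) ≃ₗ[F] (Fin 2 → F)) :
        (Fin 2 → F) →ₗ[F] (Fin 2 → F)) = (a : (Fin 2 → F) →ₗ[F] (Fin 2 → F)) := by
      have : s * (s⁻¹ * a) = a := mul_inv_cancel_left s a
      exact congrArg (fun z : (Fin 2 → F) ≃ₗ[F] (Fin 2 → F) => (z : (Fin 2 → F) →ₗ[F] (Fin 2 → F))) this
    have h2 := congrArg LinearMap.det h1
    rw [LinearMap.det_comp, hs, ha] at h2
    exact mul_left_cancel₀ (pow_ne_zero 2 hμ) (h2.trans (mul_one _).symm))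
  refine ⟨⟨tri e (s, (b, c)), hz⟩, ksl e k, ⟨k, rfl⟩, ?_, ?_⟩
  · rintro _ ⟨l, rfl⟩
    refine Subtype.ext ?_
    show tri e (s, (b, c)) * ((ksl e l : slV F V) : V ≃ₗ[F] V) = ((ksl e l : slV F V) : V ≃ₗ[F] V) * tri e (s, (b, c))
    rw [ksl_coe, ← map_mul, ← map_mul]
    congr 1
    refine Prod.ext (hsc _) ?_
    show (b, c) * 1 = 1 * (b, c)
    rw [mul_one, one_mul]
  · refine Subtype.ext ?_
    show (y : V ≃ₗ[F] V) = tri e (s, (b, c)) * ((ksl e k : slV F V) : V ≃ₗ[F] V)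
    rw [hk, ← map_mul, h]
    congr 1
    refine Prod.ext ?_ ?_
    · show a = s * (s⁻¹ * a)
      rw [mul_inv_cancel_left]
    · show (b, c) = (b, c) * 1
      rw [mul_one]


section Count

variable [Finite F]

theorem card_mm [Module.Finite F V] (e : V ≃ₗ[F] (Fin 2 → F) × ((Fin 9 → F) × (Fin m → F))) :
    Nat.card (MM e) * (Nat.card F - 1) ≤ Nat.card ((Fin 2 → F) ≃ₗ[F] (Fin 2 → F)) *
      (Nat.card ((Fin 9 → F) ≃ₗ[F] (Fin 9 → F)) * Nat.card ((Fin m → F) ≃ₗ[F] (Fin m → F))) := by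
  have fA := finite_gl F (Fin 2 → F)
  have fB := finite_gl F (Fin 9 → F)
  have fC := finite_gl F (Fin m → F)
  have fV := finite_gl F V
  let D : (((Fin 2 → F) ≃ₗ[F] (Fin 2 → F)) × (((Fin 9 → F) ≃ₗ[F] (Fin 9 → F)) × ((Fin m → F) ≃ₗ[F] (Fin m → F)))) →* Fˣ :=
    (LinearEquiv.det.comp (MonoidHom.fst _ _)) *
      ((LinearEquiv.det.comp ((MonoidHom.fst _ _).comp (MonoidHom.snd _ _))) *
        (LinearEquiv.det.comp ((MonoidHom.snd _ _).comp (MonoidHom.snd _ _))))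
  have hD : ∀ t, ((D t : Fˣ) : F) = LinearMap.det (t.1 : (Fin 2 → F) →ₗ[F] (Fin 2 → F)) *
      (LinearMap.det (t.2.1 : (Fin 9 → F) →ₗ[F] (Fin 9 → F)) *
        LinearMap.det (t.2.2 : (Fin m → F) →ₗ[F] (Fin m → F))) := by
    intro t
    show ((LinearEquiv.det t.1 * (LinearEquiv.det t.2.1 * LinearEquiv.det t.2.2) : Fˣ) : F) = _
    rw [Units.val_mul, Units.val_mul, LinearEquiv.coe_det, LinearEquiv.coe_det, LinearEquiv.coe_det]
  have hsurj : Function.Surjective D := by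
    intro u
    refine ⟨(dia u u.ne_zero, 1), ?_⟩
    refine Units.ext ?_
    rw [hD]
    have h2 : ∀ n : ℕ, LinearMap.det (((1 : (Fin n → F) ≃ₗ[F] (Fin n → F)) : (Fin n → F) →ₗ[F] (Fin n → F))) = 1 :=
      fun n => LinearMap.det_id
    show _ * (LinearMap.det (((1 : (Fin 9 → F) ≃ₗ[F] (Fin 9 → F)) : (Fin 9 → F) →ₗ[F] (Fin 9 → F))) *
      LinearMap.det (((1 : (Fin m → F) ≃ₗ[F] (Fin m → F)) : (Fin m → F) →ₗ[F] (Fin m → F)))) = _
    rw [h2, h2, mul_one, mul_one]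
    exact det_dia _ u.ne_zero
  have h1 : Nat.card (MM e) ≤ Nat.card D.ker := by
    refine Nat.card_le_card_of_surjective (fun t : D.ker => (⟨⟨tri e t.1, ?_⟩, ?_⟩ : MM e)) ?_
    · show LinearMap.det (tri e t.1 : V →ₗ[F] V) = 1
      rw [det_tri, ← hD, show D t.1 = 1 from t.2, Units.val_one]
    · exact ⟨t.1, rfl⟩
    · rintro ⟨⟨g, hg⟩, t, ht⟩
      refine ⟨⟨t, ?_⟩, ?_⟩
      · refine Units.ext ?_
        rw [hD, ← det_tri e t]
        have h3 : tri e t = g := ht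
        rw [h3]
        exact hg
      · exact Subtype.ext (Subtype.ext ht)
  have h2 : Nat.card D.ker * Nat.card Fˣ = Nat.card ((Fin 2 → F) ≃ₗ[F] (Fin 2 → F)) *
      (Nat.card ((Fin 9 → F) ≃ₗ[F] (Fin 9 → F)) * Nat.card ((Fin m → F) ≃ₗ[F] (Fin m → F))) := by
    have h3 := D.ker.card_mul_index
    rw [Subgroup.index_ker, MonoidHom.range_eq_top.2 hsurj, Subgroup.card_top, Nat.card_prod, Nat.card_prod] at h3
    exact h3
  rw [Nat.card_units] at h2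
  exact (Nat.mul_le_mul_right _ h1).trans h2.le

theorem card_ee [Module.Finite F V] (e : V ≃ₗ[F] (Fin 2 → F) × ((Fin 9 → F) × (Fin m → F))) (K d N : ℕ)
    (hB : ∀ κ : F, κ ≠ 0 → Nat.card ((Fin 9 → F) ≃ₗ[F] (Fin 9 → F)) ≤
      N * Nat.card {x : (Fin 9 → F) ≃ₗ[F] (Fin 9 → F) // Irr x ⊤ ∧ LinearMap.det (x : (Fin 9 → F) →ₗ[F] (Fin 9 → F)) = κ}) :
    Nat.card (SA F) * Nat.card (SG F (Fin m → F) K d) * Nat.card ((Fin 9 → F) ≃ₗ[F] (Fin 9 → F)) ≤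
      N * Nat.card (EE e K d) := by
  classical
  have fA := finite_gl F (Fin 2 → F)
  have fB := finite_gl F (Fin 9 → F)
  have fC := finite_gl F (Fin m → F)
  have fV := finite_gl F V
  let κ : SA F × SG F (Fin m → F) K d → F := fun p =>
    (LinearMap.det (p.1.1 : (Fin 2 → F) →ₗ[F] (Fin 2 → F)) * LinearMap.det (p.2.1 : (Fin m → F) →ₗ[F] (Fin m → F)))⁻¹
  have hκ : ∀ p, κ p ≠ 0 := fun p => inv_ne_zero (mul_ne_zero (LinearEquiv.isUnit_det' _).ne_zero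
    (LinearEquiv.isUnit_det' _).ne_zero)
  let T : SA F × SG F (Fin m → F) K d → Type _ := fun p =>
    {x : (Fin 9 → F) ≃ₗ[F] (Fin 9 → F) // Irr x ⊤ ∧ LinearMap.det (x : (Fin 9 → F) →ₗ[F] (Fin 9 → F)) = κ p}
  let f : (Σ p, T p) → EE e K d := fun z => ⟨⟨tri e (z.1.1.1, (z.2.1, z.1.2.1)), by
      show LinearMap.det (tri e (z.1.1.1, (z.2.1, z.1.2.1)) : V →ₗ[F] V) = 1
      rw [det_tri]
      show LinearMap.det (z.1.1.1 : (Fin 2 → F) →ₗ[F] (Fin 2 → F)) *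
        (LinearMap.det (z.2.1 : (Fin 9 → F) →ₗ[F] (Fin 9 → F)) *
          LinearMap.det (z.1.2.1 : (Fin m → F) →ₗ[F] (Fin m → F))) = 1
      rw [z.2.2.2]
      have h1 : LinearMap.det (z.1.1.1 : (Fin 2 → F) →ₗ[F] (Fin 2 → F)) ≠ 0 := (LinearEquiv.isUnit_det' _).ne_zero
      have h2 : LinearMap.det (z.1.2.1 : (Fin m → F) →ₗ[F] (Fin m → F)) ≠ 0 := (LinearEquiv.isUnit_det' _).ne_zero
      show _ * ((_ * _)⁻¹ * _) = (1 : F)
      field_simp⟩,
    z.1.1.1, z.2.1, z.1.2.1, z.1.1.2, z.2.2.1, z.1.2.2, rfl⟩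
  have hf : Function.Injective f := by
    rintro ⟨⟨⟨a, ha⟩, ⟨c, hc⟩⟩, ⟨b, hb⟩⟩ ⟨⟨⟨a', ha'⟩, ⟨c', hc'⟩⟩, ⟨b', hb'⟩⟩ h
    have h1 : tri e (a, (b, c)) = tri e (a', (b', c')) :=
      congrArg (fun z : EE e K d => ((z.1 : slV F V) : V ≃ₗ[F] V)) h
    have h2 := tri_injective e h1
    obtain rfl : a = a' := congrArg Prod.fst h2
    obtain rfl : b = b' := congrArg (fun z => z.2.1) h2
    obtain rfl : c = c' := congrArg (fun z => z.2.2) h2
    rfl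
  let _ : Fintype (SA F × SG F (Fin m → F) K d) := Fintype.ofFinite _
  have h1 : Nat.card (Σ p, T p) ≤ Nat.card (EE e K d) := Nat.card_le_card_of_injective f hf
  rw [Nat.card_sigma] at h1
  calc Nat.card (SA F) * Nat.card (SG F (Fin m → F) K d) * Nat.card ((Fin 9 → F) ≃ₗ[F] (Fin 9 → F))
      = ∑ p : SA F × SG F (Fin m → F) K d, Nat.card ((Fin 9 → F) ≃ₗ[F] (Fin 9 → F)) := by
        rw [Finset.sum_const, Finset.card_univ, smul_eq_mul, ← Nat.card_eq_fintype_card, Nat.card_prod]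
    _ ≤ ∑ p : SA F × SG F (Fin m → F) K d, N * Nat.card (T p) := Finset.sum_le_sum fun p _ => hB _ (hκ p)
    _ = N * ∑ p : SA F × SG F (Fin m → F) K d, Nat.card (T p) := by rw [Finset.mul_sum]
    _ ≤ N * Nat.card (EE e K d) := Nat.mul_le_mul_left _ h1

/-- the proportion of the good elements in the block diagonal group -/
theorem mm_le_ee [Module.Finite F V] (e : V ≃ₗ[F] (Fin 2 → F) × ((Fin 9 → F) × (Fin m → F))) (K d : ℕ) {c₁ : ℝ}
    (hB : ∀ κ : F, κ ≠ 0 → Nat.card ((Fin 9 → F) ≃ₗ[F] (Fin 9 → F)) ≤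
      4 * 9 * (Nat.card F - 1) * Nat.card {x : (Fin 9 → F) ≃ₗ[F] (Fin 9 → F) //
        Irr x ⊤ ∧ LinearMap.det (x : (Fin 9 → F) →ₗ[F] (Fin 9 → F)) = κ})
    (hC : c₁ / (K + 1) * (Nat.card ((Fin m → F) ≃ₗ[F] (Fin m → F)) : ℝ) ≤ Nat.card (SG F (Fin m → F) K d)) :
    c₁ / (72 * (K + 1)) * (Nat.card (MM e) : ℝ) ≤ Nat.card (EE e K d) := by
  by_cases hc1 : c₁ ≤ 0
  · have h0 : c₁ / (72 * (K + 1)) ≤ 0 := div_nonpos_of_nonpos_of_nonneg hc1 (by positivity)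
    exact (mul_nonpos_of_nonpos_of_nonneg h0 (Nat.cast_nonneg _)).trans (Nat.cast_nonneg _)
  push Not at hc1
  have fA := finite_gl F (Fin 2 → F)
  have h1 : (Nat.card (MM e) : ℝ) * ((Nat.card F - 1 : ℕ) : ℝ) ≤ (Nat.card ((Fin 2 → F) ≃ₗ[F] (Fin 2 → F)) : ℝ) *
      ((Nat.card ((Fin 9 → F) ≃ₗ[F] (Fin 9 → F)) : ℝ) * (Nat.card ((Fin m → F) ≃ₗ[F] (Fin m → F)) : ℝ)) := by
    exact_mod_cast card_mm e
  have h2 : (Nat.card (SA F) : ℝ) * (Nat.card (SG F (Fin m → F) K d) : ℝ) *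
      (Nat.card ((Fin 9 → F) ≃ₗ[F] (Fin 9 → F)) : ℝ) ≤ 36 * ((Nat.card F - 1 : ℕ) : ℝ) * (Nat.card (EE e K d) : ℝ) := by
    have := card_ee e K d (4 * 9 * (Nat.card F - 1)) hB
    have h3 : 4 * 9 * (Nat.card F - 1) = 36 * (Nat.card F - 1) := by norm_num
    rw [h3] at this
    exact_mod_cast this
  have h3 : (Nat.card ((Fin 2 → F) ≃ₗ[F] (Fin 2 → F)) : ℝ) ≤ 2 * (Nat.card (SA F) : ℝ) := by
    exact_mod_cast card_sa (F := F)
  have hq : (0 : ℝ) < ((Nat.card F - 1 : ℕ) : ℝ) := by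
    have : 1 < Nat.card F := Finite.one_lt_card
    have h4 : 0 < Nat.card F - 1 := by omega
    exact_mod_cast h4
  have hb0 : (0 : ℝ) ≤ (Nat.card ((Fin 9 → F) ≃ₗ[F] (Fin 9 → F)) : ℝ) := Nat.cast_nonneg _
  have ha0 : (0 : ℝ) ≤ (Nat.card ((Fin 2 → F) ≃ₗ[F] (Fin 2 → F)) : ℝ) := Nat.cast_nonneg _
  have hg0 : (0 : ℝ) ≤ (Nat.card (SG F (Fin m → F) K d) : ℝ) := Nat.cast_nonneg _
  have hK : (0 : ℝ) < K + 1 := by positivity
  have h5 : c₁ / (K + 1) * ((Nat.card (MM e) : ℝ) * ((Nat.card F - 1 : ℕ) : ℝ)) ≤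
      72 * ((Nat.card F - 1 : ℕ) : ℝ) * (Nat.card (EE e K d) : ℝ) := by
    calc c₁ / (K + 1) * ((Nat.card (MM e) : ℝ) * ((Nat.card F - 1 : ℕ) : ℝ))
        ≤ c₁ / (K + 1) * ((Nat.card ((Fin 2 → F) ≃ₗ[F] (Fin 2 → F)) : ℝ) *
            ((Nat.card ((Fin 9 → F) ≃ₗ[F] (Fin 9 → F)) : ℝ) * (Nat.card ((Fin m → F) ≃ₗ[F] (Fin m → F)) : ℝ))) :=
          mul_le_mul_of_nonneg_left h1 (by positivity)
      _ = (Nat.card ((Fin 2 → F) ≃ₗ[F] (Fin 2 → F)) : ℝ) * (Nat.card ((Fin 9 → F) ≃ₗ[F] (Fin 9 → F)) : ℝ) *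
            (c₁ / (K + 1) * (Nat.card ((Fin m → F) ≃ₗ[F] (Fin m → F)) : ℝ)) := by ring
      _ ≤ (2 * (Nat.card (SA F) : ℝ)) * (Nat.card ((Fin 9 → F) ≃ₗ[F] (Fin 9 → F)) : ℝ) *
            (Nat.card (SG F (Fin m → F) K d) : ℝ) :=
          mul_le_mul (mul_le_mul_of_nonneg_right h3 hb0) hC (by positivity) (by positivity)
      _ = 2 * ((Nat.card (SA F) : ℝ) * (Nat.card (SG F (Fin m → F) K d) : ℝ) *
            (Nat.card ((Fin 9 → F) ≃ₗ[F] (Fin 9 → F)) : ℝ)) := by ring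
      _ ≤ 2 * (36 * ((Nat.card F - 1 : ℕ) : ℝ) * (Nat.card (EE e K d) : ℝ)) := mul_le_mul_of_nonneg_left h2 (by norm_num)
      _ = _ := by ring
  have h6 : c₁ / (K + 1) * (Nat.card (MM e) : ℝ) ≤ 72 * (Nat.card (EE e K d) : ℝ) := by
    have h7 : (c₁ / (K + 1) * (Nat.card (MM e) : ℝ)) * ((Nat.card F - 1 : ℕ) : ℝ) ≤
        (72 * (Nat.card (EE e K d) : ℝ)) * ((Nat.card F - 1 : ℕ) : ℝ) := by
      calc _ = c₁ / (K + 1) * ((Nat.card (MM e) : ℝ) * ((Nat.card F - 1 : ℕ) : ℝ)) := by ring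
        _ ≤ _ := h5
        _ = _ := by ring
    exact le_of_mul_le_mul_right h7 hq
  have h8 : c₁ / (72 * (K + 1)) * (Nat.card (MM e) : ℝ) = (1 / 72) * (c₁ / (K + 1) * (Nat.card (MM e) : ℝ)) := by
    field_simp
  rw [h8]
  linarith

end Count

section Final

theorem rb_congr {G G' : Type*} [Group G] [Group G'] (φ : G ≃* G') {ε : ℝ} (h : RB ε G) : RB ε G' := by
  intro K hK
  have h1 : K.comap φ.toMonoidHom ≠ ⊤ := by
    intro h0
    apply hK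
    rw [eq_top_iff]
    intro x _
    obtain ⟨y, rfl⟩ := φ.surjective x
    have : y ∈ K.comap φ.toMonoidHom := by rw [h0]; trivial
    exact this
  have h2 := h _ h1
  rw [Cfsg.Agent.H851.Dg.nd_comap_equiv φ K, Nat.card_congr φ.toEquiv] at h2
  exact h2

theorem nd_subgroupOf {G : Type*} [Group G] (S H : Subgroup G) :
    Cfsg.Agent.H851.Dg.nd (H.subgroupOf S) = Nat.card {x : G // x ∈ S ∧ ∀ g ∈ S, g * x * g⁻¹ ∉ H} := by
  refine Nat.card_congr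
    { toFun := fun x => ⟨x.1.1, x.1.2, fun g hg h => x.2 ⟨g, hg⟩ (Subgroup.mem_subgroupOf.2 h)⟩
      invFun := fun x => ⟨⟨x.1, x.2.1⟩, fun g h => x.2.2 g.1 g.2 (Subgroup.mem_subgroupOf.1 h)⟩
      left_inv := fun x => rfl
      right_inv := fun x => rfl }

/-- The fixed point trick for `SL(V)`, from the abstract trick, the count of irreducible elements with a given
determinant and the count of large block elements. -/
theorem trick_sl_of
    (hTrick : ∀ (G : Type) [Group G] [Finite G] (M K₀ : Subgroup G) (E : Set G) (c ε : ℝ), 0 < c → 0 < ε →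
      K₀ ≤ M → E ⊆ M → (∀ y ∈ E, ∀ k ∈ K₀, y * k ∈ E) → (∀ g, ∀ x ∈ E, g * x * g⁻¹ ∈ E → g ∈ M) →
      (∀ y ∈ E, ∃ z, ∃ k ∈ K₀, (∀ l ∈ K₀, z * l = l * z) ∧ y = z * k) → c * (Nat.card M : ℝ) ≤ Nat.card E →
      RB ε K₀ → ∀ H : Subgroup G, 4 * (Cfsg.Agent.H851.Dg.nd H : ℝ) < c * min 1 ε * Nat.card G →
      ∃ g : G, ∀ k ∈ K₀, g * k * g⁻¹ ∈ H)
    (hIrr : ∀ (F : Type) [Field F] [Finite F] (κ : F), κ ≠ 0 → Nat.card ((Fin 9 → F) ≃ₗ[F] (Fin 9 → F)) ≤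
      4 * 9 * (Nat.card F - 1) * Nat.card {x : (Fin 9 → F) ≃ₗ[F] (Fin 9 → F) //
        Irr x ⊤ ∧ LinearMap.det (x : (Fin 9 → F) →ₗ[F] (Fin 9 → F)) = κ})
    (hCount : ∃ c : ℝ, 0 < c ∧ ∃ K₀ : ℕ, ∀ (F V : Type) [Field F] [Finite F] [AddCommGroup V] [Module F V]
      [Module.Finite F V] (K : ℕ), K₀ ≤ K → K < Module.finrank F V →
      c / (K + 1) * (Nat.card (V ≃ₗ[F] V) : ℝ) ≤ Nat.card (SG F V K (Module.finrank F V)))
    (hbase : ∃ ε : ℝ, 0 < ε ∧ ∀ (F : Type) [Field F] [Finite F], RB ε (Matrix.SpecialLinearGroup (Fin 2) F)) :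
    ∃ c : ℝ, 0 < c ∧ ∃ n₀ : ℕ, ∀ (F V : Type) [Field F] [Finite F] [AddCommGroup V] [Module F V] [Module.Finite F V],
      n₀ ≤ Module.finrank F V → ∀ H : Subgroup (V ≃ₗ[F] V), H ≤ slV F V →
      (ndV (slV F V) H : ℝ) < c * Nat.card (slV F V) →
      ∃ W U : Submodule F V, IsCompl W U ∧ Module.finrank F W = 2 ∧ HasOn (slV F V) H W U := by
  obtain ⟨c₁, hc₁, K₁, hC⟩ := hCount
  obtain ⟨ε, hε, hb⟩ := hbase
  set K : ℕ := max K₁ 11 with hKdef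
  have hK1 : K₁ ≤ K := le_max_left _ _
  have hK11 : 11 ≤ K := le_max_right _ _
  have hc2 : 0 < c₁ / (72 * (K + 1)) := by positivity
  refine ⟨c₁ / (72 * (K + 1)) * min 1 ε / 4, by positivity, K + 12, ?_⟩
  intro F V _ _ _ _ _ hn H hH hnd
  obtain ⟨m, hm⟩ : ∃ m, Module.finrank F V = 2 + (9 + m) := ⟨Module.finrank F V - 11, by omega⟩
  have hmK : K < m := by omega
  have fV := finite_gl F V
  have he : Nonempty (V ≃ₗ[F] (Fin 2 → F) × ((Fin 9 → F) × (Fin m → F))) := by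
    refine FiniteDimensional.nonempty_linearEquiv_of_finrank_eq ?_
    rw [hm, Module.finrank_prod, Module.finrank_prod, Module.finrank_fin_fun, Module.finrank_fin_fun,
      Module.finrank_fin_fun]
  obtain ⟨e⟩ := he
  have hcm := hC F (Fin m → F) K hK1 (by rw [Module.finrank_fin_fun]; exact hmK)
  have hcard := mm_le_ee e K (Module.finrank F (Fin m → F)) (hIrr F) hcm
  have hRB : RB ε (ksl e).range := rb_congr (MonoidHom.ofInjective (ksl_injective e)) (hb F)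
  obtain ⟨g, hg⟩ := hTrick (slV F V) (MM e) (ksl e).range (EE e K (Module.finrank F (Fin m → F)))
    (c₁ / (72 * (K + 1))) ε hc2 hε (ksl_le e) (ee_subset e _ _) (ee_mul e _ _) (ee_ti e hK11) (ee_split e _ _)
    hcard hRB (H.subgroupOf (slV F V)) (by
      rw [nd_subgroupOf]
      have h1 : (ndV (slV F V) H : ℝ) < c₁ / (72 * (K + 1)) * min 1 ε / 4 * Nat.card (slV F V) := hnd
      have h2 : (Nat.card {x : V ≃ₗ[F] V // x ∈ slV F V ∧ ∀ g ∈ slV F V, g * x * g⁻¹ ∉ H} : ℝ) = ndV (slV F V) H := rfl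
      rw [h2]
      linarith)
  have hgg : ∀ k, (g : V ≃ₗ[F] V) * ((ksl e k : slV F V) : V ≃ₗ[F] V) * (g : V ≃ₗ[F] V)⁻¹ ∈ H := fun k =>
    Subgroup.mem_subgroupOf.1 (hg _ ⟨k, rfl⟩)
  -- the two subspaces
  let e' : V ≃ₗ[F] (Fin 2 → F) × ((Fin 9 → F) × (Fin m → F)) := (g : V ≃ₗ[F] V)⁻¹ ≪≫ₗ e
  let W : Submodule F V := LinearMap.range ((e'.symm : (Fin 2 → F) × ((Fin 9 → F) × (Fin m → F)) →ₗ[F] V) ∘ₗ
    LinearMap.inl F (Fin 2 → F) ((Fin 9 → F) × (Fin m → F)))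
  let U : Submodule F V := LinearMap.range ((e'.symm : (Fin 2 → F) × ((Fin 9 → F) × (Fin m → F)) →ₗ[F] V) ∘ₗ
    LinearMap.inr F (Fin 2 → F) ((Fin 9 → F) × (Fin m → F)))
  have hWm : ∀ v, v ∈ W ↔ (e' v).2 = 0 := by
    intro v
    constructor
    · rintro ⟨x, rfl⟩
      show (e' (e'.symm (x, 0))).2 = 0
      rw [e'.apply_symm_apply]
    · intro hv
      refine ⟨(e' v).1, ?_⟩
      show e'.symm ((e' v).1, 0) = v
      rw [← hv]
      exact e'.symm_apply_apply v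
  have hUm : ∀ v, v ∈ U ↔ (e' v).1 = 0 := by
    intro v
    constructor
    · rintro ⟨x, rfl⟩
      show (e' (e'.symm (0, x))).1 = 0
      rw [e'.apply_symm_apply]
    · intro hv
      refine ⟨(e' v).2, ?_⟩
      show e'.symm (0, (e' v).2) = v
      rw [← hv]
      exact e'.symm_apply_apply v
  refine ⟨W, U, ?_, ?_, ?_⟩
  · refine IsCompl.of_eq ?_ ?_
    · rw [eq_bot_iff]
      intro v hv
      have h1 := (hWm v).1 hv.1
      have h2 := (hUm v).1 hv.2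
      have h3 : e' v = 0 := Prod.ext h2 h1
      exact (LinearEquiv.map_eq_zero_iff e').1 h3
    · rw [eq_top_iff]
      intro v _
      refine Submodule.mem_sup.2 ⟨e'.symm ((e' v).1, 0), ⟨(e' v).1, rfl⟩, e'.symm (0, (e' v).2), ⟨(e' v).2, rfl⟩, ?_⟩
      rw [← map_add]
      have : (((e' v).1, 0) : (Fin 2 → F) × ((Fin 9 → F) × (Fin m → F))) + (0, (e' v).2) = e' v :=
        Prod.ext (add_zero _) (zero_add _)
      rw [this, e'.symm_apply_apply]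
  · have hinj : Function.Injective ((e'.symm : (Fin 2 → F) × ((Fin 9 → F) × (Fin m → F)) →ₗ[F] V) ∘ₗ
        LinearMap.inl F (Fin 2 → F) ((Fin 9 → F) × (Fin m → F))) := by
      intro x y hxy
      exact congrArg Prod.fst (e'.symm.injective (show e'.symm (x, 0) = e'.symm (y, 0) from hxy))
    show Module.finrank F (LinearMap.range _) = 2
    rw [LinearMap.finrank_range_of_inj hinj, Module.finrank_fin_fun]
  · intro y hy hyW hyU
    -- `y` is block diagonal for `e'`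
    have hy1 : ∀ u, y (e'.symm (0, u)) = e'.symm (0, u) := fun u => hyU _ ⟨u, rfl⟩
    have hy2 : ∀ x, (e' (y (e'.symm (x, 0)))).2 = 0 := fun x => (hWm _).1 (hyW _ ⟨x, rfl⟩)
    obtain ⟨t, ht⟩ := exists_tri (A := Fin 2 → F) (B := Fin 9 → F) (C := Fin m → F) e' y (fun u => hy2 u)
      (fun v => by
        rw [hy1 (v, 0), e'.apply_symm_apply]
        exact ⟨rfl, rfl⟩)
      (fun w => by
        rw [hy1 (0, w), e'.apply_symm_apply]
        exact ⟨rfl, rfl⟩)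
    have ht2 : t.2 = 1 := by
      have h1 : ∀ u, (t.2.1 u.1, t.2.2 u.2) = u := by
        intro u
        have h2 := hy1 u
        rw [ht] at h2
        have h3 := e_tri e' t (e'.symm (0, u))
        rw [h2, e'.apply_symm_apply] at h3
        exact (congrArg Prod.snd h3).symm
      refine Prod.ext ?_ ?_
      · exact LinearEquiv.ext fun v => congrArg Prod.fst (h1 (v, 0))
      · exact LinearEquiv.ext fun w => congrArg Prod.snd (h1 (0, w))
    have hty : y = tri e' (t.1, 1) := by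
      rw [ht]
      congr 1
      exact Prod.ext rfl ht2
    have hdt : LinearMap.det (t.1 : (Fin 2 → F) →ₗ[F] (Fin 2 → F)) = 1 := by
      have h1 : LinearMap.det (y : V →ₗ[F] V) = 1 := hy
      rw [hty, det_tri] at h1
      have h2 : ∀ n : ℕ, LinearMap.det (((1 : (Fin n → F) ≃ₗ[F] (Fin n → F)) : (Fin n → F) →ₗ[F] (Fin n → F))) = 1 :=
        fun n => LinearMap.det_id
      have h3 : LinearMap.det (t.1 : (Fin 2 → F) →ₗ[F] (Fin 2 → F)) *
        (LinearMap.det (((1 : (Fin 9 → F) ≃ₗ[F] (Fin 9 → F)) : (Fin 9 → F) →ₗ[F] (Fin 9 → F))) *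
        LinearMap.det (((1 : (Fin m → F) ≃ₗ[F] (Fin m → F)) : (Fin m → F) →ₗ[F] (Fin m → F)))) = 1 := h1
      rwa [h2, h2, mul_one, mul_one] at h3
    obtain ⟨k, hk⟩ := exists_ksl e t.1 hdt
    have h5 : y = (g : V ≃ₗ[F] V) * ((ksl e k : slV F V) : V ≃ₗ[F] V) * (g : V ≃ₗ[F] V)⁻¹ := by
      rw [hk, hty]
      ext v
      rfl
    rw [h5]
    exact hgg k

end Final

end Cfsg.Agent.H193.Bs
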