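import Cfsg.Agent.H193.Bs.TrickSL
import Cfsg.Agent.H358.Bs.Trick
import Cfsg.Agent.H46.Bs.GL

/-!
# S5733, task BS20: the fixed point trick for `SL(V)` (the count of the large block elements as hypothesis)
-/

set_option autoImplicit false

namespace Cfsg.Agent.H193.Bs

open Cfsg.Agent.H847.Bs

theorem trick_sl_count
    (hCount : ∃ c : ℝ, 0 < c ∧ ∃ K₀ : ℕ, ∀ (F V : Type) [Field F] [Finite F] [AddCommGroup V] [Module F V]
      [Module.Finite F V] (K : ℕ), K₀ ≤ K → K < Module.finrank F V →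
      c / (K + 1) * (Nat.card (V ≃ₗ[F] V) : ℝ) ≤ Nat.card (SG F V K (Module.finrank F V)))
    (hbase : ∃ ε : ℝ, 0 < ε ∧ ∀ (F : Type) [Field F] [Finite F], RB ε (Matrix.SpecialLinearGroup (Fin 2) F)) :
    ∃ c : ℝ, 0 < c ∧ ∃ n₀ : ℕ, ∀ (F V : Type) [Field F] [Finite F] [AddCommGroup V] [Module F V] [Module.Finite F V],
      n₀ ≤ Module.finrank F V → ∀ H : Subgroup (V ≃ₗ[F] V), H ≤ slV F V →
      (ndV (slV F V) H : ℝ) < c * Nat.card (slV F V) →
      ∃ W U : Submodule F V, IsCompl W U ∧ Module.finrank F W = 2 ∧ HasOn (slV F V) H W U :=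
  trick_sl_of (fun _ _ _ _ _ _ _ _ hc hε h1 h2 h3 h4 h5 h6 h7 H h8 =>
      Cfsg.Agent.H358.Bs.trick hc hε h1 h2 h3 h4 h5 h6 h7 H h8)
    (fun F _ _ κ hκ => Cfsg.Agent.H46.Bs.gl_irr_det F (Fin 9 → F) (d := 9) (by rw [Module.finrank_fin_fun]) (by norm_num) κ hκ)
    hCount hbase

end Cfsg.Agent.H193.Bs
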